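import Cfsg.Agent.PQ.Sm.Gen
import Cfsg.Agent.LV.Lab.Good

/-!
# PQ, two primes in one torus: definitions (helper14)

* `TF D l` : the `l`-elements of the torus have connected centralisers, which are Levi subgroups;
* `BoxTwo` : commuting abelian Sylow subgroups lie in one stable torus;
* `BoxFm`, `BoxX` : the instances.
-/

set_option autoImplicit false
set_option linter.unusedSectionVars false

namespace Cfsg.Agent.PQ.Two

open Cfsg Cfsg.Lie Cfsg.Agent.DL Cfsg.Agent.LV Cfsg.Agent.LV.Blk Cfsg.Agent.KZ.DatX Cfsg.Agent.Nodes.RGDChev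
  Cfsg.Agent.ChevalleyStructure.NPerm

section

variable {p : ℕ} [Fact p.Prime] {k : Type} [Field k] [CharP k p] {Y : Type} [Group Y] {N : Type} [Fintype N]
  [DecidableEq N] {ρ : Y →* GL N k} {F : MulAut Y} {G : Subgroup Y} [IsAlgClosed k]

/-- the stabiliser of an `l`-element of the torus fixes a linear form whose kernel contains roots of the centraliser only -/
def TF (D : Datum p ρ F G) (l : ℕ) : Prop :=
  ∀ t ∈ D.T, IsL l t → ∃ L : (D.I → ℤ) →+ ℤ, (∀ w m, D.Rp w m → m * t = t * m → ∀ a, L (D.act w a) = L a) ∧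
    ∀ a, D.Rt a → L a = 0 → D.χ a t = 1

end

/-- commuting abelian Sylow subgroups lie in one torus -/
def BoxTwo : Prop :=
  ∀ {p : ℕ} [Fact p.Prime] {k : Type} [Field k] [CharP k p] {Y : Type} [Group Y] {N : Type} [Fintype N]
    [DecidableEq N] {ρ : Y →* GL N k} {F : MulAut Y} {G : Subgroup Y} [IsAlgClosed k] (D : Datum p ρ F G)
    [Fintype ↥(GF F G)] {l q : ℕ}, l.Prime → q.Prime → l ≠ p → q ≠ p → TF D l → TF D q → AbS l ↥(GF F G) →
    AbS q ↥(GF F G) → Com l q ↥(GF F G) → ∃ w, SylT D l w ∧ SylT D q w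

/-- the classical frames -/
def BoxFm : Prop :=
  ∀ {p : ℕ} [Fact p.Prime] {k : Type} [Field k] [CharP k p] {Y : Type} [Group Y] {N : Type} [Fintype N]
    [DecidableEq N] {ρ : Y →* GL N k} {F : MulAut Y} {G : Subgroup Y} [IsAlgClosed k] {D : Datum p ρ F G}
    {n q : ℕ} {b : Bool}, Cl.Fm D n b q → ∀ {l : ℕ}, l.Prime → l ≠ 2 → l ≠ p → TF D l

/-- the exceptional data: all primes `l ≥ b` -/
def BoxX {C : ChevalleyDatum} {n : ℕ} {M : CoxeterMatrix (Fin n)} (hp : IsType C n M) (b : ℕ) : Prop :=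
  ∀ {p : ℕ} [Fact p.Prime] {k : Type} [Field k] [CharP k p] [IsAlgClosed k] {Mx : Matrix (Fin n) (Fin n) ℤ}
    (X : XF hp p k Mx) {l : ℕ}, l.Prime → b ≤ l → l ≠ p → TF X.D l

end Cfsg.Agent.PQ.Two
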