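import Cfsg.Agent.PQ.Two.Defs
import Cfsg.Agent.KM.Ht.Z

/-!
# PQ, two primes in one torus (helper14)

* `mem_cen` : connected centralisers; `tor` : commuting elements lie in a stable torus; `boxTwo`;
* `tf_of` : the condition `TF` from an invariant form; `boxFm`, `boxG2`, `boxD4`, `boxF4`, `boxE6`, `boxE7`, `boxE8`.
-/

set_option autoImplicit false
set_option linter.unusedSectionVars false
set_option maxHeartbeats 400000

namespace Cfsg.Agent.PQ.Two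

open Cfsg Cfsg.Lie Cfsg.Agent.DL Cfsg.Agent.DL.PP Cfsg.Agent.DL.Uni Cfsg.Agent.DL.Asm Cfsg.Agent.Nodes.Reps
  Cfsg.Agent.Nodes.BNOf Cfsg.Agent.KZ Cfsg.Agent.KZ.Lie Cfsg.Agent.LV Cfsg.Agent.LV.Blk Cfsg.Agent.LV.Lab Cfsg.Agent.KZ.DatX
  Cfsg.Agent.KZ.Dat Cfsg.Agent.Nodes Cfsg.Agent.Nodes.RGDChev Cfsg.Agent.ChevalleyStructure.NPerm
  Cfsg.Agent.ChevalleyStructure.CoxeterGeom Cfsg.Agent.ChevalleyStructure.CoxeterGeomTypes Cfsg.Agent.Tits.Roots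
  Cfsg.Agent.Nodes.Coroot Matrix

section Gen

variable {p : ℕ} [Fact p.Prime] {k : Type} [Field k] [CharP k p] {Y : Type} [Group Y] {N : Type} [Fintype N]
  [DecidableEq N] {ρ : Y →* GL N k} {F : MulAut Y} {G : Subgroup Y} [IsAlgClosed k] {D : Datum p ρ F G} {l : ℕ}

theorem TF.conj (h : TF D l) {y : Y} (hy : y ∈ G) (hF : y⁻¹ * F y ∈ D.NN) : TF (D.conj hy hF) l := by
  intro t ht hl
  have h1 : y⁻¹ * t * y ∈ D.T := mem_cj.1 ht
  obtain ⟨L, h2, h3⟩ := h _ h1 (hl.imp fun j hj => by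
    rw [show y⁻¹ * t * y = y⁻¹ * t * y⁻¹⁻¹ by rw [inv_inv], conj_pow, hj, mul_one, mul_inv_cancel])
  refine ⟨L, fun w m hm e => h2 w (y⁻¹ * m * y) ((D.conj_rp_iff hy hF).1 ?_) ?_, fun a ha h0 => ?_⟩
  · rwa [show y * (y⁻¹ * m * y) * y⁻¹ = m by group]
  · calc _ = y⁻¹ * (m * t) * y := by group
      _ = _ := by rw [e]; group
  · have h4 := D.conj_χ hy hF a h1
    rw [show y * (y⁻¹ * t * y) * y⁻¹ = t by group] at h4
    exact h4.trans (h3 a ha h0)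

/-- **Connected centralisers.** -/
theorem mem_cen {A : Set Y} (hA : A ⊆ D.T) (hf : A.Finite) (h : ∀ t ∈ A, ∃ l, TF D l ∧ IsL l t) {g : Y} (hg : g ∈ G)
    (hc : g ∈ Subgroup.centralizer A) : g ∈ D.cen A := by
  obtain ⟨c, hc1, m, ⟨w, hm⟩, hmc, rfl⟩ := D.exists_cen_form hA hg hc
  choose! L h1 h2 using fun t (ht : t ∈ A) => (h t ht).elim fun l hl => hl.1 t (hA ht) hl.2
  obtain ⟨f, h3, h4⟩ := KM.Ht.exists_generic D hf.toFinset L w fun t ht =>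
    h1 t (hf.mem_toFinset.1 ht) w m hm (hmc t (hf.mem_toFinset.1 ht)).symm
  let H : Subgroup D.W :=
    { carrier := {w | ∃ x ∈ D.cen A, D.Rp w x}
      one_mem' := ⟨1, one_mem _, rp_one⟩
      mul_mem' := fun ⟨x, hx, h⟩ ⟨y, hy, h'⟩ => ⟨x * y, mul_mem hx hy, h.mul h'⟩
      inv_mem' := fun ⟨x, hx, h⟩ => ⟨x⁻¹, inv_mem hx, h.inv⟩ }
  obtain ⟨x, hx, h5⟩ : w ∈ H := by
    refine CF.mem_of_fix D f (fun a ha h0 => ?_) h3
    have hc : a ∈ D.Sz A := ⟨ha, fun t ht => h2 t ht a ha (h4 a ha h0 t (hf.mem_toFinset.2 ht))⟩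
    obtain ⟨x, hx, h⟩ := D.exists_rp_rf ha
    exact ⟨x, (sup_le_sup_left (sup_le (RGD.le_Sup (S := D.Sz A) hc) (RGD.le_Sup (S := D.Sz A) (D.Sz_neg hc))) _ :
      _ ≤ D.cen A) hx, h⟩
  have h6 := mul_mem hx (D.T_le_cen A (h5.unique hm))
  rw [mul_inv_cancel_left] at h6
  exact mul_mem (D.S_le_cen A hc1) h6

/-- **Commuting elements lie in a stable torus.** -/
theorem tor {A : Set Y} (hf : A.Finite) (h : ∀ t ∈ A, t ∈ GF F G ∧ ∃ l, l.Prime ∧ l ≠ p ∧ TF D l ∧ IsL l t)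
    (hc : ∀ s ∈ A, ∀ t ∈ A, s * t = t * s) : ∃ T ∈ tori D, A ⊆ T := by
  induction A, hf using Set.Finite.induction_on with
  | empty => exact ⟨_, Tw_mem 1, Set.empty_subset _⟩
  | @insert x A _ hf ih =>
    obtain ⟨T, hT, hZ⟩ := ih (fun t ht => h t (.inr ht)) fun s hs t ht => hc s (.inr hs) t (.inr ht)
    obtain ⟨y, hy, hF, rfl, -⟩ := Datum.exists_of_pair (pair_Vof hT)
    have hF' : ∀ a ∈ (D.conj hy hF).Sz A, (D.conj hy hF).g a ∈ (D.conj hy hF).Sz A :=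
      fun _ => (D.conj hy hF).g_mem_Sz hZ fun z hz => by rwa [(mem_GF.1 (h z (.inr hz)).1).2]
    obtain ⟨hx, l, hl, hp, -, j, hj⟩ := h x (.inl rfl)
    obtain ⟨T', hT', h2⟩ := (sys' ((D.conj hy hF).sub hZ hF' rfl)).toral
      ⟨mem_cen hZ hf (fun t ht => let ⟨_, l, _, _, h1, h2⟩ := h t (.inr ht); ⟨l, h1.conj hy hF, h2⟩) hx.1
        fun t ht => hc t (.inr ht) x (.inl rfl), hx.2⟩
      fun e => hp ((Nat.prime_dvd_prime_iff_eq Fact.out hl).1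
        ((Fact.out : p.Prime).dvd_of_dvd_pow (e.trans (orderOf_dvd_of_pow_eq_one hj)))).symm
    rw [Datum.tori_sub, D.tori_conj] at hT'
    exact ⟨T', hT'.1, Set.insert_subset h2 hT'.2⟩

theorem sylT_of_le [Fintype ↥(GF F G)] (hl : l.Prime) (P : Sylow l ↥(GF F G)) {y : Y} (hy : y ∈ G) {w : D.W}
    (hw : D.Rp w (y⁻¹ * F y)) (h : ∀ u ∈ (P : Subgroup ↥(GF F G)), (u : Y) ∈ cj y D.T) : SylT D l w := by
  have := Fact.mk hl
  refine le_antisymm ?_ (fact_T_le l w)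
  have h2 := Subgroup.card_dvd_of_le (show (P : Subgroup (GF F G)) ≤ (cj y D.T).subgroupOf (GF F G) from h)
  rwa [P.card_eq_multiplicity, ← Subgroup.inf_subgroupOf_right,
    Nat.card_congr (Subgroup.subgroupOfEquivOfLe inf_le_right).toEquiv, D.card_cj_TF hy hw, ← ordT,
    hl.pow_dvd_iff_le_factorization (ordT_ne w)] at h2

end Gen

/-- **Commuting abelian Sylow subgroups lie in one torus.** -/
theorem boxTwo : BoxTwo := by
  intro p _ k _ _ Y _ N _ _ ρ F G _ D _ l q hl hq hlp hqp h1 h2 h3 h4 ⟨P, Q, h⟩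
  obtain ⟨T, hT, h5⟩ := tor (D := D) (A := Subtype.val '' ((P : Set ↥(GF F G)) ∪ Q)) ((Set.toFinite _).image _) (by
    rintro _ ⟨x, hx | hx, rfl⟩
    · exact ⟨x.2, l, hl, hlp, h1, (P.2 ⟨x, hx⟩).imp fun j hj => congrArg (fun z => z.1.1) hj⟩
    · exact ⟨x.2, q, hq, hqp, h2, (Q.2 ⟨x, hx⟩).imp fun j hj => congrArg (fun z => z.1.1) hj⟩) (by
    rintro _ ⟨x, hx | hx, rfl⟩ _ ⟨z, hz | hz, rfl⟩
    · exact congrArg (fun z => z.1.1) ((h3 P).1.1 ⟨x, hx⟩ ⟨z, hz⟩)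
    · exact congrArg Subtype.val (h x hx z hz)
    · exact congrArg Subtype.val (h z hz x hx).symm
    · exact congrArg (fun z => z.1.1) ((h4 Q).1.1 ⟨x, hx⟩ ⟨z, hz⟩))
  obtain ⟨y, hy, w, hw, rfl⟩ := exists_y hT
  exact ⟨w, sylT_of_le hl P hy hw fun u hu => h5 ⟨u, .inl hu, rfl⟩, sylT_of_le hq Q hy hw fun u hu => h5 ⟨u, .inr hu, rfl⟩⟩

section Form

variable {p : ℕ} [Fact p.Prime] {k : Type} [Field k] [CharP k p] {Y : Type} [Group Y] {N : Type} [Fintype N]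
  [DecidableEq N] {ρ : Y →* GL N k} {F : MulAut Y} {G : Subgroup Y} [IsAlgClosed k] {D : Datum p ρ F G} {l : ℕ}
  {B B' : Matrix D.R D.R ℤ} {m : ℤ}

theorem inv_of_simple (h : ∀ i, (D.Wm (D.cs.simple i))ᵀ * B * D.Wm (D.cs.simple i) = B) (w : D.W) :
    (D.Wm w)ᵀ * B * D.Wm w = B := by
  induction w using D.cs.simple_induction_left with
  | one => rw [D.Wm_one, transpose_one, Matrix.one_mul, Matrix.mul_one]
  | mul_simple_left w j ih =>
    rw [D.Wm_mul, transpose_mul]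
    calc _ = (D.Wm w)ᵀ * ((D.Wm (D.cs.simple j))ᵀ * B * D.Wm (D.cs.simple j)) * D.Wm w := by simp only [Matrix.mul_assoc]
      _ = _ := by rw [h, ih]

theorem form_act (hB : ∀ w, (D.Wm w)ᵀ * B * D.Wm w = B) (w : D.W) (x v : D.R → ℤ) :
    ((D.Wm w *ᵥ x) ᵥ* B) ⬝ᵥ (D.Wm w *ᵥ v) = (x ᵥ* B) ⬝ᵥ v := by
  rw [dotProduct_mulVec, ← vecMul_transpose, vecMul_vecMul, vecMul_vecMul, ← Matrix.mul_assoc, hB]

theorem two_form (hB : ∀ w, (D.Wm w)ᵀ * B * D.Wm w = B) {a : D.I → ℤ} (ha : D.Rt a) (x : D.R → ℤ) :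
    2 * ((x ᵥ* B) ⬝ᵥ D.cor a) = (D.wt a ⬝ᵥ x) * ((D.cor a ᵥ* B) ⬝ᵥ D.cor a) := by
  have h1 := form_act hB (D.rf a) x (D.cor a)
  have h2 : D.wt a ⬝ᵥ D.cor a = 2 := (wt_dot_cor D a ha).trans (cpr_self _ _ ha)
  simp only [D.Wm_rf ha, sub_mulVec, one_mulVec, vecMulVec_mulVec, op_smul_eq_smul, h2, sub_vecMul, smul_vecMul,
    sub_dotProduct, dotProduct_sub, smul_dotProduct, dotProduct_smul, smul_eq_mul] at h1
  linarith

/-- **The condition from an invariant form.** -/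
theorem tf_of (hl : l.Prime) (h2 : l ≠ 2) (hp : l ≠ p) (hG : Good D l) (hB : ∀ w, (D.Wm w)ᵀ * B * D.Wm w = B)
    (hB' : B' * B = m • 1) (hm : ¬ (l : ℤ) ∣ m) : TF D l := by
  intro t ht ⟨j, hj⟩
  obtain ⟨c, rfl⟩ := (D.mem_T t).1 ht
  have hn : l ^ j ≠ 0 := pow_ne_zero _ hl.ne_zero
  have : NeZero (l ^ j) := ⟨hn⟩
  obtain ⟨ζ, hζ⟩ := exists_primL (k := k) hl hp j
  have hc : c ^ l ^ j = 1 := D.τ_inj (by rw [map_pow, hj, map_one])
  choose x _ hx using fun i => hζ.eq_pow_of_mem_rootsOfUnity (ξ := c i) (congrFun hc i)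
  obtain ⟨x, rfl⟩ : ∃ x : D.R → ℤ, c = coch x ζ := ⟨fun i => x i, funext fun i => by rw [coch_apply, zpow_natCast, hx]⟩
  obtain ⟨ω, hω⟩ : ∃ ω : ℂˣ, IsPrimitiveRoot ω (l ^ j) := ⟨_, (Complex.isPrimitiveRoot_exp _ hn).isUnit_unit hn⟩
  obtain ⟨x', hx'⟩ := hG.lev j (x ᵥ* B)
  have hl' : Prime (l : ℤ) := Nat.prime_iff_prime_int.1 hl
  refine ⟨Lf D x', fun w n hn e a => ?_, fun a ha h0 => ?_⟩
  · let H : Subgroup D.W :=
      { carrier := {w | x' ᵥ* D.Wm w = x'}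
        one_mem' := by rw [Set.mem_ofPred, D.Wm_one, vecMul_one]
        mul_mem' := fun {a b} (ha : _ = _) (hb : _ = _) => by rw [Set.mem_ofPred, D.Wm_mul, ← vecMul_vecMul, ha, hb]
        inv_mem' := fun {a} (ha : _ = _) => by
          rw [Set.mem_ofPred]
          conv_lhs => rw [← ha, vecMul_vecMul, ← D.Wm_mul, mul_inv_cancel, D.Wm_one, vecMul_one] }
    have h3 : w ∈ H := by
      refine stab_le hl hG.tf (c := coch (x ᵥ* B) ω) ⟨j, by rw [← map_pow, hω.pow_eq_one, map_one]⟩ (fun a ha h => ?_)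
        fun v => ?_
      · rw [chr_coch, hω.zpow_eq_one_iff_dvd] at h
        show x' ᵥ* _ = x'
        rw [vecMul_rf D _ ha, (hx' a ha).1 (by rw [dotProduct_comm]; exact_mod_cast h), zero_smul, sub_zero]
      · choose z hz using (mon_coch_iff hζ (D.Wm w) x).1 (D.τ_inj (by rw [← D.conj_τ hn, e, mul_inv_cancel_right]))
        have h4 : D.Wm w *ᵥ x = x + ((l ^ j : ℕ) : ℤ) • z := by
          rw [← sub_eq_iff_eq_add', show ((l ^ j : ℕ) : ℤ) • z = (D.Wm w - 1) *ᵥ x from (funext hz).symm, sub_mulVec,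
            one_mulVec]
        have h5 := form_act hB w x v
        rw [h4, add_vecMul, add_dotProduct, smul_vecMul, smul_dotProduct, smul_eq_mul, dotProduct_comm,
          dotProduct_comm _ v] at h5
        rw [chr_coch, chr_coch]
        show ω ^ (_ ⬝ᵥ _) = ω ^ (_ ⬝ᵥ _)
        rw [← h5, _root_.zpow_add, _root_.zpow_mul, zpow_natCast, hω.pow_eq_one, _root_.one_zpow, mul_one]
    rw [Lf_act, show x' ᵥ* D.Wm w = x' from h3]
  · have h3 : ¬ (l : ℤ) ∣ (D.cor a ᵥ* B) ⬝ᵥ D.cor a := fun h => by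
      have h4 := two_form hB ha (D.wt a ᵥ* B')
      rw [vecMul_vecMul, hB', vecMul_smul, vecMul_one, smul_dotProduct, wt_dot_cor D a ha, cp, cpr_self _ _ ha] at h4
      have h5 : (l : ℤ) ∣ 2 := ((hl'.dvd_mul.1 (h4 ▸ h.mul_left _)).elim id fun h => (hl'.dvd_mul.1 h).resolve_left hm)
      exact h2 ((Nat.prime_dvd_prime_iff_eq hl Nat.prime_two).1 (by exact_mod_cast h5))
    have h4 := ((hx' a ha).2 ((Lf_zero x' ha).1 h0)).mul_left 2
    rw [two_form hB ha] at h4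
    rw [D.χ_τ, chr_coch, (hζ.zpow_eq_one_iff_dvd _).2 (by exact_mod_cast hl'.pow_dvd_of_dvd_mul_right j h3 h4), Units.val_one]

end Form

/-- **The classical frames.** -/
theorem boxFm : BoxFm := by
  intro p _ k _ _ Y _ N _ _ ρ F G _ D n q b Φ l hl h2 hp
  refine tf_of (B := Φ.Pᵀ * Φ.P) (B' := Φ.P' * Φ.P'ᵀ) (m := 1) hl h2 hp (good_Fm Φ (hl.odd_of_ne_two h2)) (fun w => ?_) ?_
    fun h => hl.one_lt.ne' (Nat.dvd_one.1 (by exact_mod_cast h))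
  · have h1 : (spm (Φ.E.emb w).π (Φ.E.emb w).s)ᵀ * spm (Φ.E.emb w).π (Φ.E.emb w).s = 1 := by
      rw [transpose_spm, spm_mul, ← spm_one]
      congr 1
      · exact inv_mul_cancel _
      · funext j
        simp
    calc _ = (Φ.P * D.Wm w)ᵀ * (Φ.P * D.Wm w) := by simp only [transpose_mul, Matrix.mul_assoc]
      _ = _ := by rw [Φ.hW, transpose_mul, Matrix.mul_assoc, ← Matrix.mul_assoc _ _ Φ.P, h1, Matrix.one_mul]
  · rw [Matrix.mul_assoc, ← Matrix.mul_assoc _ _ Φ.P, ← transpose_mul, Φ.PP', transpose_one, Matrix.one_mul, Φ.P'P, one_smul]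

/-! ### the exceptional data -/

/-- the simple reflection from the table -/
def sT (n : ℕ) (A : List (List ℤ)) (i : Fin n) : Matrix (Fin n) (Fin n) ℤ :=
  of fun a b => (if a = b then 1 else 0) - if b = i then tb n A i a else 0

/-- `B` is an invariant form, `B'` is `m` times its inverse -/
def Ct (n : ℕ) (A B B' : List (List ℤ)) (m : ℤ) : Prop :=
  (∀ i, (sT n A i)ᵀ * of (tb n B) * sT n A i = of (tb n B)) ∧ of (tb n B') * of (tb n B) = m • 1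

instance decCt (n : ℕ) (A B B' : List (List ℤ)) (m : ℤ) : Decidable (Ct n A B B' m) := by
  unfold Ct; infer_instance

theorem box_of {C : ChevalleyDatum} {n : ℕ} {M : CoxeterMatrix (Fin n)} {hp : IsType C n M} {A B B' : List (List ℤ)} {m b : ℕ}
    (hA : IsRows C n A) (h : Ct n A B B' m) (h0 : 0 < m) (h1 : m < b) (h2 : 2 < b)
    (hG : ∀ {p : ℕ} [Fact p.Prime] {k : Type} [Field k] [CharP k p] [IsAlgClosed k] {l : ℕ} {Mx : Matrix (Fin n) (Fin n) ℤ}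
      (X : XF hp p k Mx), l.Prime → b ≤ l → Good X.D l) : BoxX hp b := by
  intro p _ k _ _ _ Mx X l hl hb hp
  have e : ∀ i, sM C n i = sT n A i := fun i => by
    ext a b
    rw [sM, sT, of_apply, of_apply, tb, hA, getD_ofFn]
  refine tf_of (D := X.D) (B := of (tb n B)) (B' := of (tb n B')) hl (by omega) hp (hG X hl hb)
    (inv_of_simple (D := X.D) fun i => ?_) h.2 fun h3 => ?_
  · have h3 : X.D.Wm (X.D.cs.simple i) = sT n A i := (X.Wm_simple i).trans (e i)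
    exact h3 ▸ h.1 i
  · have := Nat.le_of_dvd h0 (Int.natCast_dvd_natCast.1 h3)
    omega

theorem ct_G2 : Ct 2 rowsG2 [[6, 3], [3, 2]] [[2, -3], [-3, 6]] (3 : ℕ) := by decide +kernel

theorem ct_D4 : Ct 4 rowsD4 [[2, 2, 1, 1], [2, 4, 2, 2], [1, 2, 2, 1], [1, 2, 1, 2]] rowsD4 (2 : ℕ) := by decide +kernel

theorem ct_F4 : Ct 4 rowsF4 [[4, 6, 4, 2], [6, 12, 8, 4], [4, 8, 6, 3], [2, 4, 3, 2]]
    [[2, -1, 0, 0], [-1, 2, -2, 0], [0, -2, 4, -2], [0, 0, -2, 4]] (2 : ℕ) := by decide +kernel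

theorem ct_E6 : Ct 6 rowsE6 [[4, 3, 5, 6, 4, 2], [3, 6, 6, 9, 6, 3], [5, 6, 10, 12, 8, 4], [6, 9, 12, 18, 12, 6],
    [4, 6, 8, 12, 10, 5], [2, 3, 4, 6, 5, 4]] rowsE6 (3 : ℕ) := by decide +kernel

theorem ct_E7 : Ct 7 rowsE7 [[4, 4, 6, 8, 6, 4, 2], [4, 7, 8, 12, 9, 6, 3], [6, 8, 12, 16, 12, 8, 4], [8, 12, 16, 24, 18, 12, 6],
    [6, 9, 12, 18, 15, 10, 5], [4, 6, 8, 12, 10, 8, 4], [2, 3, 4, 6, 5, 4, 3]] rowsE7 (2 : ℕ) := by decide +kernel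

theorem ct_E8 : Ct 8 rowsE8 [[4, 5, 7, 10, 8, 6, 4, 2], [5, 8, 10, 15, 12, 9, 6, 3], [7, 10, 14, 20, 16, 12, 8, 4],
    [10, 15, 20, 30, 24, 18, 12, 6], [8, 12, 16, 24, 20, 15, 10, 5], [6, 9, 12, 18, 15, 12, 8, 4], [4, 6, 8, 12, 10, 8, 6, 3],
    [2, 3, 4, 6, 5, 4, 3, 2]] rowsE8 (1 : ℕ) := by decide +kernel

theorem boxG2 : BoxX hpG2 5 := box_of isRows_G2 ct_G2 (by omega) (by omega) (by omega) good_G2

theorem boxD4 : BoxX hpD4 3 := box_of isRows_D4 ct_D4 (by omega) (by omega) (by omega) good_D4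

theorem boxF4 : BoxX hpF4 5 := box_of isRows_F4 ct_F4 (by omega) (by omega) (by omega) good_F4

theorem boxE6 : BoxX hpE6 5 := box_of isRows_E6 ct_E6 (by omega) (by omega) (by omega) good_E6

theorem boxE7 : BoxX hpE7 5 := box_of isRows_E7 ct_E7 (by omega) (by omega) (by omega) good_E7

theorem boxE8 : BoxX hpE8 7 := box_of isRows_E8 ct_E8 (by omega) (by omega) (by omega) good_E8

end Cfsg.Agent.PQ.Two
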