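import Cfsg.Agent.PQ.Two.Main
import Cfsg.Agent.PQ.Dg.Gen
import Cfsg.Agent.KZ.ClB.SP

/-!
# PQ, two primes in one torus: classical data of arbitrary rank, the shape `Dg.Two` (helper14)

`tf_spm`, `tf_SP`, `two_of`, `two_SP`, `two_X`.
-/

set_option autoImplicit false
set_option linter.unusedSectionVars false

namespace Cfsg.Agent.PQ.Two

open Cfsg Cfsg.Lie Cfsg.Agent.DL Cfsg.Agent.LV.Lab Cfsg.Agent.KZ.DatX Cfsg.Agent.KZ.Dat Cfsg.Agent.KZ.ClB
  Cfsg.Agent.Nodes.RGDChev Cfsg.Agent.ChevalleyStructure.NPerm Matrix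

section

variable {p : ℕ} [Fact p.Prime] {k : Type} [Field k] [CharP k p] {Y : Type} [Group Y] {N : Type} [Fintype N]
  [DecidableEq N] {ρ : Y →* GL N k} {F : MulAut Y} {G : Subgroup Y} [IsAlgClosed k] {D : Datum p ρ F G} {l q : ℕ}

/-- signed permutation matrices in some basis -/
theorem tf_spm (hl : l.Prime) (h0 : l ≠ 2) (hp : l ≠ p) {ι : Type} [Fintype ι] [DecidableEq ι] {P : Matrix ι D.R ℤ}
    {P' : Matrix D.R ι ℤ} (h1 : P * P' = 1) (h2 : P' * P = 1)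
    (hW : ∀ w, ∃ (π : Equiv.Perm ι) (s : ι → ℤˣ), P * D.Wm w = spm π s * P) (hG : Good D l) : TF D l := by
  refine tf_of (B := Pᵀ * P) (B' := P' * P'ᵀ) (m := 1) hl h0 hp hG (fun w => ?_) ?_
    fun h => hl.one_lt.ne' (Nat.dvd_one.1 (by exact_mod_cast h))
  · obtain ⟨π, s, h⟩ := hW w
    have h3 : (spm π s)ᵀ * spm π s = 1 := by
      rw [transpose_spm, spm_mul, ← spm_one]
      congr 1
      · exact inv_mul_cancel _
      · funext j
        simp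
    calc _ = (P * D.Wm w)ᵀ * (P * D.Wm w) := by simp only [transpose_mul, Matrix.mul_assoc]
      _ = _ := by rw [h, transpose_mul, Matrix.mul_assoc, ← Matrix.mul_assoc _ _ P, h3, Matrix.one_mul]
  · rw [Matrix.mul_assoc, ← Matrix.mul_assoc _ _ P, ← transpose_mul, h1, transpose_one, Matrix.one_mul, h2, one_smul]

theorem good_SP {m : ℕ} {ev : Prop} (S : SP D m ev) (hm : ev → 2 ≤ m) (hl : Odd l) : Good D l := by
  refine good_of_spm hl S.PP' S.P'P (fun w => ⟨_, _, S.eq w⟩) fun i => ?_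
  obtain ⟨s, h1, h2⟩ : ∃ s : Fin m → ℤˣ, (ev → ∏ a, s a = 1) ∧ s i = -1 := by
    by_cases h : ev
    · have : Nontrivial (Fin m) := Fin.nontrivial_iff_two_le.2 (hm h)
      obtain ⟨j, hj⟩ := exists_ne i
      exact ⟨Pi.mulSingle i (-1) * Pi.mulSingle j (-1), fun _ => by
        simp [Finset.prod_mul_distrib, Finset.prod_pi_mulSingle'], by simp [hj]⟩
    · exact ⟨fun _ => -1, fun e => absurd e h, rfl⟩
  obtain ⟨w, hw⟩ := S.bwd 1 s h1
  refine ⟨w, funext fun r => (congrFun (congrFun hw i) r).trans ?_⟩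
  exact (spm_mul_apply 1 s S.P i r).trans (by rw [h2]; simp)

/-- **The classical data.** -/
theorem tf_SP {m : ℕ} {ev : Prop} (S : SP D m ev) (hm : ev → 2 ≤ m) (hl : l.Prime) (h0 : l ≠ 2) (hp : l ≠ p) : TF D l :=
  tf_spm hl h0 hp S.PP' S.P'P (fun w => ⟨_, _, S.eq w⟩) (good_SP S hm (hl.odd_of_ne_two h0))

variable [Fintype ↥(GF F G)]

theorem two_of (hl : l.Prime) (hq : q.Prime) (hlp : l ≠ p) (hqp : q ≠ p) (h1 : TF D l) (h2 : TF D q) : Dg.Two D l q :=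
  boxTwo D hl hq hlp hqp h1 h2

theorem two_SP {m : ℕ} {ev : Prop} (S : SP D m ev) (hm : ev → 2 ≤ m) (hl : l.Prime) (hq : q.Prime) (hl2 : l ≠ 2) (hq2 : q ≠ 2)
    (hlp : l ≠ p) (hqp : q ≠ p) : Dg.Two D l q :=
  two_of hl hq hlp hqp (tf_SP S hm hl hl2 hlp) (tf_SP S hm hq hq2 hqp)

end

theorem two_X {C : ChevalleyDatum} {n : ℕ} {M : CoxeterMatrix (Fin n)} {hp : IsType C n M} {b : ℕ} (h : BoxX hp b) {p : ℕ}
    [Fact p.Prime] {k : Type} [Field k] [CharP k p] [IsAlgClosed k] {Mx : Matrix (Fin n) (Fin n) ℤ} (X : XF hp p k Mx)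
    [Fintype ↥(GF X.F ⊤)] {l q : ℕ} (hl : l.Prime) (hq : q.Prime) (hbl : b ≤ l) (hbq : b ≤ q) (hlp : l ≠ p) (hqp : q ≠ p) :
    Dg.Two X.D l q :=
  two_of hl hq hlp hqp (h X hl hbl hlp) (h X hq hbq hqp)

end Cfsg.Agent.PQ.Two
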